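import Mathlib

/-!
An abstract binary code of length 24, dimension 12 and minimum weight at least 8: the cosets are
filled up by the words of weight at most 4, every 5 coordinates lie in one word of weight 8, and
these words span. Self-orthogonality then gives double evenness.
-/

set_option autoImplicit false

namespace Cfsg.Agent.AbstractGolay

open Finset

/-- The word with support `s`. -/
def word (s : Finset (Fin 24)) : Fin 24 → ZMod 2 := fun i => if i ∈ s then 1 else 0

/-- The support of a word. -/
def supp (w : Fin 24 → ZMod 2) : Finset (Fin 24) := univ.filter fun i => w i ≠ 0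

theorem hammingNorm_eq (w : Fin 24 → ZMod 2) : hammingNorm w = (supp w).card := rfl

theorem supp_word (s : Finset (Fin 24)) : supp (word s) = s := by
  ext i; simp [supp, word]

theorem word_supp (w : Fin 24 → ZMod 2) : word (supp w) = w := by
  funext i
  rcases (by decide : ∀ a : ZMod 2, a = 0 ∨ a = 1) (w i) with h | h <;> simp [word, supp, h]

theorem supp_sub (u v : Fin 24 → ZMod 2) : supp (u - v) = symmDiff (supp u) (supp v) := by
  ext i
  rcases (by decide : ∀ a : ZMod 2, a = 0 ∨ a = 1) (u i) with h | h <;>
    rcases (by decide : ∀ a : ZMod 2, a = 0 ∨ a = 1) (v i) with h' | h' <;>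
    simp [supp, mem_symmDiff, h, h']

theorem card_symmDiff_add (s t : Finset (Fin 24)) :
    (symmDiff s t).card + 2 * (s ∩ t).card = s.card + t.card := by
  have h1 : (symmDiff s t).card + (s ∩ t).card = (s ∪ t).card := by
    rw [← card_union_of_disjoint]
    · congr 1; ext i; simp [mem_symmDiff]; tauto
    · exact disjoint_left.mpr fun i h h' => by simp [mem_symmDiff] at h h'; tauto
  have h2 := card_union_add_card_inter s t
  omega

variable (C : Submodule (ZMod 2) (Fin 24 → ZMod 2))

/-- No non-zero word of the code has weight below 8. -/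
def MinWeight : Prop := ∀ w ∈ C, w ≠ 0 → 8 ≤ hammingNorm w

variable {C}

theorem MinWeight.eq_or_le (h : MinWeight C) {s t : Finset (Fin 24)}
    (hc : word s - word t ∈ C) : s = t ∨ 8 + 2 * (s ∩ t).card ≤ s.card + t.card := by
  by_cases e : word s - word t = 0
  · left; rw [← supp_word s, sub_eq_zero.mp e, supp_word]
  · right
    have := h _ hc e
    rw [hammingNorm_eq, supp_sub, supp_word, supp_word] at this
    have := card_symmDiff_add s t
    omega

theorem sum_choose : ∑ k ∈ range 4, Nat.choose 24 k = 2325 := by
  simp [Finset.sum_range_succ, Nat.choose_eq_descFactorial_div_factorial, Nat.descFactorial_succ,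
    Nat.factorial]

open scoped Classical in
/-- The cosets: each contains one word of weight at most 3, or six of weight 4. -/
theorem coset_cover (hdim : Module.finrank (ZMod 2) C = 12) (h : MinWeight C)
    (w : Fin 24 → ZMod 2) :
    (∃ s : Finset (Fin 24), s.card ≤ 3 ∧ word s - w ∈ C) ∨
      (univ.filter fun t : Finset (Fin 24) => t.card = 4 ∧ word t - w ∈ C).card = 6 := by
  classical
  have : Fintype ((Fin 24 → ZMod 2) ⧸ C) := Fintype.ofFinite _
  let Φ : Finset (Fin 24) → (Fin 24 → ZMod 2) ⧸ C := fun s => Submodule.Quotient.mk (word s)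
  have hΦ : ∀ s (v : Fin 24 → ZMod 2), Φ s = Submodule.Quotient.mk v ↔ word s - v ∈ C :=
    fun s v => Submodule.Quotient.eq C
  have hcard : Fintype.card ((Fin 24 → ZMod 2) ⧸ C) = 4096 := by
    rw [← Nat.card_eq_fintype_card, Module.natCard_eq_pow_finrank (K := ZMod 2)]
    have := Submodule.finrank_quotient_add_finrank C
    rw [Module.finrank_fin_fun, hdim] at this
    rw [show Module.finrank (ZMod 2) ((Fin 24 → ZMod 2) ⧸ C) = 12 by omega]
    simp
  let small : Finset (Finset (Fin 24)) := (range 4).biUnion fun k => powersetCard k univ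
  have hsmall : ∀ s ∈ small, s.card ≤ 3 := by
    intro s hs
    simp [small, mem_powersetCard] at hs
    omega
  have hsc : small.card = 2325 := by
    rw [card_biUnion]
    · simp only [card_powersetCard, card_univ, Fintype.card_fin]
      exact sum_choose
    · intro i _ j _ hij
      exact disjoint_left.mpr fun s hs hs' =>
        hij ((mem_powersetCard.mp hs).2.symm.trans (mem_powersetCard.mp hs').2)
  have hinj : Set.InjOn Φ small := by
    intro s hs t ht e
    rcases h.eq_or_le ((hΦ s (word t)).mp e) with e | e
    · exact e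
    · have := hsmall s hs; have := hsmall t ht; omega
  let A := small.image Φ
  have hA : A.card = 2325 := by rw [card_image_of_injOn hinj, hsc]
  have hB : (univ \ A).card = 1771 := by
    rw [card_sdiff_of_subset (subset_univ _), card_univ, hcard, hA]
  let T : Finset (Finset (Fin 24)) := powersetCard 4 univ
  have hT : T.card = 6 * 1771 := by
    simp only [T, card_powersetCard, card_univ, Fintype.card_fin]
    simp [Nat.choose_eq_descFactorial_div_factorial, Nat.descFactorial_succ, Nat.factorial]
  have hmaps : ∀ t ∈ T, Φ t ∈ univ \ A := by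
    intro t ht
    simp only [T, mem_powersetCard] at ht
    simp only [mem_sdiff, mem_univ, true_and, A, mem_image, not_exists, not_and]
    intro s hs e
    rcases h.eq_or_le ((hΦ s (word t)).mp e) with e | e
    · have := hsmall s hs; rw [e] at this; omega
    · have := hsmall s hs; omega
  have hfib : ∀ q ∈ univ \ A, (T.filter fun t => Φ t = q).card ≤ 6 := by
    intro q _
    set F := T.filter fun t => Φ t = q
    have hF : ∀ t ∈ F, t.card = 4 ∧ Φ t = q := fun t ht => by
      simpa [F, T, mem_powersetCard] using ht
    have hdis : (F : Set (Finset (Fin 24))).PairwiseDisjoint id := by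
      intro s hs t ht hne
      rcases h.eq_or_le ((hΦ s (word t)).mp ((hF s hs).2.trans (hF t ht).2.symm)) with e | e
      · exact absurd e hne
      · have := (hF s hs).1; have := (hF t ht).1
        exact disjoint_iff_inter_eq_empty.mpr (card_eq_zero.mp (by simp only [id_eq]; omega))
    have := card_le_univ (F.biUnion id)
    simp only [card_biUnion hdis, Fintype.card_fin, id_eq] at this
    rw [sum_congr rfl (fun t ht => (hF t ht).1)] at this
    simp at this
    omega
  have hsum := card_eq_sum_card_fiberwise hmaps
  have hall := (sum_eq_sum_iff_of_le hfib).mp (by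
    rw [← hsum, hT, sum_const, smul_eq_mul, hB])
  by_cases hq : (Submodule.Quotient.mk w : (Fin 24 → ZMod 2) ⧸ C) ∈ A
  · left
    simp only [A, mem_image] at hq
    obtain ⟨s, hs, e⟩ := hq
    exact ⟨s, hsmall s hs, (hΦ s w).mp e⟩
  · right
    refine Eq.trans ?_ (hall _ (mem_sdiff.mpr ⟨mem_univ (Submodule.Quotient.mk w), hq⟩))
    refine congrArg Finset.card ?_
    ext t
    simp only [T, mem_filter, mem_powersetCard, mem_univ, subset_univ, true_and, hΦ]

theorem octad_cover (hdim : Module.finrank (ZMod 2) C = 12) (h : MinWeight C)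
    (s : Finset (Fin 24)) (hs : s.card = 5) :
    ∃ o : Finset (Fin 24), word o ∈ C ∧ o.card = 8 ∧ s ⊆ o := by
  classical
  rcases coset_cover hdim h (word s) with ⟨u, hu, hc⟩ | hF
  · rcases h.eq_or_le hc with e | e
    · rw [e] at hu; omega
    · have h0 : u ∩ s = ∅ := card_eq_zero.mp (by omega)
      refine ⟨symmDiff u s, ?_, ?_, ?_⟩
      · rw [← supp_word u, ← supp_word s, ← supp_sub, word_supp]; exact hc
      · have := card_symmDiff_add u s
        rw [h0, card_empty] at this
        rw [h0, card_empty] at e
        omega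
      · intro i hi
        have : i ∉ u := fun hiu => notMem_empty i (h0 ▸ mem_inter.mpr ⟨hiu, hi⟩)
        simp [mem_symmDiff, hi, this]
  · exfalso
    set F := univ.filter fun t : Finset (Fin 24) => t.card = 4 ∧ word t - word s ∈ C
    have hFm : ∀ t ∈ F, t.card = 4 ∧ word t - word s ∈ C := fun t ht => by simpa [F] using ht
    have hdis : (F : Set (Finset (Fin 24))).PairwiseDisjoint id := by
      intro a ha b hb hne
      have hab : word a - word b ∈ C := by
        simpa using C.sub_mem (hFm a ha).2 (hFm b hb).2
      rcases h.eq_or_le hab with e | e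
      · exact absurd e hne
      · have := (hFm a ha).1; have := (hFm b hb).1
        exact disjoint_iff_inter_eq_empty.mpr (card_eq_zero.mp (by simp only [id_eq]; omega))
    have huniv : F.biUnion id = univ := by
      apply eq_univ_of_card
      simp only [card_biUnion hdis, Fintype.card_fin, id_eq]
      rw [sum_congr rfl (fun t ht => (hFm t ht).1)]
      simp [hF]
    obtain ⟨i, hi⟩ := card_pos.mp (by omega : 0 < s.card)
    obtain ⟨t, ht, hit⟩ := mem_biUnion.mp (huniv ▸ mem_univ i)
    obtain ⟨ht4, htc⟩ := hFm t ht
    rcases h.eq_or_le htc with e | e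
    · rw [e] at ht4; omega
    · have : 0 < (t ∩ s).card := card_pos.mpr ⟨i, mem_inter.mpr ⟨hit, hi⟩⟩
      omega

theorem octad_unique (h : MinWeight C) {s o o' : Finset (Fin 24)} (hs : s.card = 5)
    (ho : word o ∈ C) (ho' : word o' ∈ C) (h8 : o.card = 8) (h8' : o'.card = 8)
    (hso : s ⊆ o) (hso' : s ⊆ o') : o = o' := by
  rcases h.eq_or_le (C.sub_mem ho ho') with e | e
  · exact e
  · have := card_le_card (subset_inter hso hso')
    omega

theorem mem_span_octads (hdim : Module.finrank (ZMod 2) C = 12) (h : MinWeight C)
    {w : Fin 24 → ZMod 2} (hw : w ∈ C) :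
    w ∈ Submodule.span (ZMod 2) {v : Fin 24 → ZMod 2 | v ∈ C ∧ hammingNorm v = 8} := by
  induction hn : hammingNorm w using Nat.strong_induction_on generalizing w with
  | _ n ih =>
    rcases eq_or_ne w 0 with rfl | h0
    · exact zero_mem _
    have h8 := h w hw h0
    rcases eq_or_ne n 8 with rfl | hn8
    · exact Submodule.subset_span ⟨hw, hn⟩
    rw [hammingNorm_eq] at h8 hn
    obtain ⟨s, hsw, hs⟩ := exists_subset_card_eq (by omega : 5 ≤ (supp w).card)
    obtain ⟨o, ho, ho8, hso⟩ := octad_cover hdim h s hs
    have hlt : hammingNorm (w - word o) < n := by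
      rw [hammingNorm_eq, supp_sub, supp_word]
      have := card_symmDiff_add (supp w) o
      have := card_le_card (subset_inter hsw hso)
      omega
    have hrest := ih _ hlt (C.sub_mem hw ho) rfl
    have ho' : word o ∈ Submodule.span (ZMod 2)
        {v : Fin 24 → ZMod 2 | v ∈ C ∧ hammingNorm v = 8} :=
      Submodule.subset_span ⟨ho, by rw [hammingNorm_eq, supp_word, ho8]⟩
    simpa using add_mem hrest ho'

theorem four_dvd (hdim : Module.finrank (ZMod 2) C = 12) (h : MinWeight C)
    (horth : ∀ v ∈ C, ∀ w ∈ C, ∑ i, v i * w i = 0) {w : Fin 24 → ZMod 2} (hw : w ∈ C) :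
    4 ∣ hammingNorm w := by
  suffices H : w ∈ C ∧ 4 ∣ hammingNorm w from H.2
  have hspan := mem_span_octads hdim h hw
  clear hw
  induction hspan using Submodule.span_induction with
  | mem v hv => exact ⟨hv.1, by rw [hv.2]; norm_num⟩
  | zero => exact ⟨zero_mem _, by simp⟩
  | smul c v _ hv =>
    rcases (by decide : ∀ a : ZMod 2, a = 0 ∨ a = 1) c with rfl | rfl
    · simp
    · simpa using hv
  | add a b _ _ ha hb =>
    refine ⟨add_mem ha.1 hb.1, ?_⟩
    have hsum := horth a ha.1 b hb.1
    have he : ∀ i, a i * b i = if i ∈ supp a ∩ supp b then (1 : ZMod 2) else 0 := by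
      intro i
      rcases (by decide : ∀ t : ZMod 2, t = 0 ∨ t = 1) (a i) with e | e <;>
        rcases (by decide : ∀ t : ZMod 2, t = 0 ∨ t = 1) (b i) with e' | e' <;> simp [supp, e, e']
    simp only [he, sum_ite_mem, univ_inter, sum_const, nsmul_eq_mul, mul_one] at hsum
    rw [ZMod.natCast_eq_zero_iff_even] at hsum
    obtain ⟨k, hk⟩ := hsum
    have := card_symmDiff_add (supp a) (supp b)
    rw [show a + b = a - b from (sub_eq_add_neg a b).trans (by
      congr 1; funext i; simp [ZMod.neg_eq_self_mod_two]) |>.symm, hammingNorm_eq, supp_sub]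
    have ha' := ha.2; have hb' := hb.2
    rw [hammingNorm_eq] at ha' hb'
    omega

end Cfsg.Agent.AbstractGolay
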