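import Cfsg.Agent.Lib.AbstractGolay.Basic
import Cfsg.Agent.Lib.GolayUnique.Transport
import Cfsg.Agent.Lib.Mathieu.Groups

/-!
# A group permuting the 276 duads of a space of dimension 11 acts as M₂₄

24 vectors `f` of a space `V` with `2^11` elements over two elements, whose sums of pairs span
`V` and which satisfy no linear relation of weight 2, 4 or 6, define a code of length 24,
dimension 12 and minimum weight 8.  A group acting linearly on `V` and permuting the sums of pairs
permutes the 24 points and preserves the code, so its image is contained in M₂₄.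
-/

set_option autoImplicit false

namespace Cfsg.Agent.AbstractGolay

open Finset
open scoped Pointwise

universe u v

variable {V : Type u} [AddCommGroup V] [Module (ZMod 2) V] (f : Fin 24 → V)

/-- The sum of the vectors of a set of points. -/
def fsum (s : Finset (Fin 24)) : V := ∑ i ∈ s, f i

/-- No relation of weight 2, 4 or 6. -/
def NoShortRel : Prop :=
  ∀ s : Finset (Fin 24), (s.card = 2 ∨ s.card = 4 ∨ s.card = 6) → fsum f s ≠ 0

variable {f}

theorem two_vec (v : V) : v + v = 0 := by
  rw [← two_smul (ZMod 2) v, show (2 : ZMod 2) = 0 from rfl, zero_smul]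

theorem eq_of_add_zero {a b : V} (h : a + b = 0) : a = b := by
  rw [← add_zero a, ← two_vec b, ← add_assoc, h, zero_add]

theorem fsum_symmDiff (s t : Finset (Fin 24)) :
    fsum f (symmDiff s t) = fsum f s + fsum f t := by
  have h1 : symmDiff s t = (s \ t) ∪ (t \ s) := rfl
  have h2 : fsum f s = fsum f (s \ t) + fsum f (s ∩ t) :=
    (sum_inter_add_sum_sdiff s t f).symm.trans (add_comm _ _)
  have h3 : fsum f t = fsum f (t \ s) + fsum f (s ∩ t) := by
    rw [inter_comm]; exact (sum_inter_add_sum_sdiff t s f).symm.trans (add_comm _ _)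
  rw [h2, h3, h1, fsum, sum_union disjoint_sdiff_sdiff, add_add_add_comm, two_vec, add_zero]
  rfl

theorem fsum_pair {x y : Fin 24} (h : x ≠ y) : fsum f {x, y} = f x + f y := sum_pair h

/-- A set of pairs with equal sums: the pairs are equal. -/
theorem pair_eq (hr : NoShortRel f) {x y p q : Fin 24} (hxy : x ≠ y) (hpq : p ≠ q)
    (h : f x + f y = f p + f q) : ({x, y} : Finset (Fin 24)) = {p, q} := by
  by_contra hne
  have hc := card_symmDiff_add ({x, y} : Finset (Fin 24)) {p, q}
  rw [card_pair hxy, card_pair hpq] at hc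
  have h0 : (symmDiff ({x, y} : Finset (Fin 24)) {p, q}).card ≠ 0 := fun h0 => hne (by
    rwa [card_eq_zero, ← bot_eq_empty, symmDiff_eq_bot] at h0)
  refine hr (symmDiff {x, y} {p, q}) ?_
    (by rw [fsum_symmDiff, fsum_pair hxy, fsum_pair hpq, h, two_vec])
  omega

/-- The sum of two duads is a duad only if they share a point. -/
theorem pair_meet (hr : NoShortRel f) {x y p q a b : Fin 24} (hxy : x ≠ y) (hpq : p ≠ q)
    (hab : a ≠ b) (h : f x + f y + (f p + f q) = f a + f b) : p = x ∨ p = y ∨ q = x ∨ q = y := by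
  by_contra hne
  simp only [not_or] at hne
  obtain ⟨h1, h2, h3, h4⟩ := hne
  set s : Finset (Fin 24) := symmDiff {x, y} {p, q} with hs
  have hc := card_symmDiff_add ({x, y} : Finset (Fin 24)) {p, q}
  have hi : ({x, y} : Finset (Fin 24)) ∩ {p, q} = ∅ := by
    ext i
    simp only [mem_inter, mem_insert, mem_singleton, notMem_empty, iff_false, not_and]
    rintro (rfl | rfl) <;> simp [*, Ne.symm h1, Ne.symm h2, Ne.symm h3, Ne.symm h4]
  rw [hi, card_empty, card_pair hxy, card_pair hpq, ← hs] at hc
  have hc2 := card_symmDiff_add s {a, b}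
  have hle := card_le_card (inter_subset_right (s₁ := s) (s₂ := {a, b}))
  rw [card_pair hab] at hc2 hle
  refine hr (symmDiff s {a, b}) (by omega) ?_
  rw [fsum_symmDiff, hs, fsum_symmDiff, fsum_pair hxy, fsum_pair hpq, fsum_pair hab, h, two_vec]

variable (f) in
/-- An additive map moves the duads as the map `σ` moves the points. -/
def MovesAs (g : V →+ V) (σ : Fin 24 → Fin 24) : Prop :=
  ∀ x y, g (f x + f y) = f (σ x) + f (σ y)

variable (f) in
/-- An additive map permutes the duads. -/
def PermutesDuads (g : V →+ V) : Prop :=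
  Function.Injective g ∧ ∀ x y, x ≠ y → ∃ p q, p ≠ q ∧ g (f x + f y) = f p + f q

theorem exists_third : ∀ a b : Fin 24, ∃ c, c ≠ a ∧ c ≠ b := by decide

theorem movesAs_unique (hr : NoShortRel f) {g : V →+ V} {σ τ : Fin 24 → Fin 24}
    (hσ : MovesAs f g σ) (hτ : MovesAs f g τ) (hi : Function.Injective σ)
    (hj : Function.Injective τ) : σ = τ := by
  funext x
  by_contra hne
  have key : ∀ y, y ≠ x → σ y = τ x := by
    intro y hy
    have := pair_eq hr (hi.ne hy.symm) (hj.ne hy.symm) ((hσ x y).symm.trans (hτ x y))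
    have hm : τ x ∈ ({σ x, σ y} : Finset (Fin 24)) := this ▸ mem_insert_self _ _
    simp only [mem_insert, mem_singleton] at hm
    rcases hm with h | h
    · exact absurd h.symm hne
    · exact h.symm
  obtain ⟨y, hy⟩ := exists_ne x
  obtain ⟨z, hz, hzy⟩ := exists_third x y
  exact hi.ne hzy ((key z hz).trans (key y hy).symm)

theorem exists_movesAs (hr : NoShortRel f) {g : V →+ V} (hg : PermutesDuads f g) :
    ∃ σ : Fin 24 → Fin 24, Function.Injective σ ∧ MovesAs f g σ := by
  classical
  have ec : ∀ x : Fin 24, ∃ y z, y ≠ x ∧ z ≠ x ∧ y ≠ z := by decide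
  have star : ∀ x, ∃ p, ∀ y, y ≠ x → ∃ q, q ≠ p ∧ g (f x + f y) = f p + f q := by
    intro x
    obtain ⟨y, y', hy, hy', hyy⟩ := ec x
    obtain ⟨p₁, q₁, hpq₁, e₁⟩ := hg.2 x y (Ne.symm hy)
    obtain ⟨p₂, q₂, hpq₂, e₂⟩ := hg.2 x y' (Ne.symm hy')
    obtain ⟨u, w, huw, e₀⟩ := hg.2 y y' hyy
    have hsum : f p₁ + f q₁ + (f p₂ + f q₂) = f u + f w := by
      rw [← e₁, ← e₂, ← e₀, ← map_add, add_add_add_comm, two_vec, zero_add]
    obtain ⟨p, q, r, hqp, hrp, hy1, hy2⟩ : ∃ p q r, q ≠ p ∧ r ≠ p ∧
        g (f x + f y) = f p + f q ∧ g (f x + f y') = f p + f r := by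
      rcases pair_meet hr hpq₁ hpq₂ huw hsum with h | h | h | h
      · exact ⟨p₁, q₁, q₂, hpq₁.symm, fun e => hpq₂ (h.trans e.symm), e₁, by rw [e₂, h]⟩
      · exact ⟨q₁, p₁, q₂, hpq₁, fun e => hpq₂ (h.trans e.symm), by rw [e₁, add_comm],
          by rw [e₂, h]⟩
      · exact ⟨p₁, q₁, p₂, hpq₁.symm, fun e => hpq₂ (e.trans h.symm), e₁,
          by rw [e₂, h, add_comm]⟩
      · exact ⟨q₁, p₁, p₂, hpq₁, fun e => hpq₂ (e.trans h.symm), by rw [e₁, add_comm],
          by rw [e₂, h, add_comm]⟩
    have hqr : q ≠ r := fun e => hyy (by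
      have h := pair_eq hr (Ne.symm hy) (Ne.symm hy') (hg.1 (hy1.trans (by rw [hy2, e])))
      have hm : y ∈ ({x, y'} : Finset (Fin 24)) := h ▸ by simp
      simpa [hy] using hm)
    refine ⟨p, fun z hz => ?_⟩
    by_cases hzy : z = y
    · exact ⟨q, hqp, hzy ▸ hy1⟩
    by_cases hzy' : z = y'
    · exact ⟨r, hrp, hzy' ▸ hy2⟩
    obtain ⟨a, b, hab, e⟩ := hg.2 x z (Ne.symm hz)
    by_cases hap : a = p
    · exact ⟨b, hap ▸ hab.symm, hap ▸ e⟩
    by_cases hbp : b = p
    · exact ⟨a, hbp ▸ hab, by rw [e, hbp, add_comm]⟩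
    exfalso
    have meet : ∀ w s, w ≠ x → s ≠ p → z ≠ w → g (f x + f w) = f p + f s → a = s ∨ b = s := by
      intro w s hw hs hzw ew
      obtain ⟨c, d, hcd, e'⟩ := hg.2 w z (Ne.symm hzw)
      have h : f p + f s + (f a + f b) = f c + f d := by
        rw [← ew, ← e, ← e', ← map_add, add_add_add_comm, two_vec, zero_add]
      rcases pair_meet hr hs.symm hab hcd h with h | h | h | h
      · exact absurd h hap
      · exact Or.inl h
      · exact absurd h hbp
      · exact Or.inr h
    have h1 := meet y q hy hqp hzy hy1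
    have h2 := meet y' r hy' hrp hzy' hy2
    have e3 : g (f x + f z) = g (f y + f y') := by
      have hs : g (f y + f y') = f q + f r := by
        have : f y + f y' = f x + f y + (f x + f y') := by
          rw [add_add_add_comm, two_vec, zero_add]
        rw [this, map_add, hy1, hy2, add_add_add_comm, two_vec, zero_add]
      rw [hs, e]
      rcases h1 with rfl | rfl <;> rcases h2 with h2 | h2
      · exact absurd h2 hqr
      · rw [h2]
      · rw [h2, add_comm]
      · exact absurd h2 hqr
    have hm : x ∈ ({y, y'} : Finset (Fin 24)) :=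
      pair_eq hr (Ne.symm hz) hyy (hg.1 e3) ▸ mem_insert_self _ _
    simp [Ne.symm hy, Ne.symm hy'] at hm
  choose σ hσ using star
  have hmeq : ∀ x y, x ≠ y → σ x ≠ σ y → g (f x + f y) = f (σ x) + f (σ y) := by
    intro x y hxy hne
    obtain ⟨q, hq, e⟩ := hσ x y hxy.symm
    obtain ⟨q', hq', e'⟩ := hσ y x hxy
    have h := pair_eq hr hq.symm hq'.symm (e.symm.trans (by rw [add_comm, e']))
    have hm : σ y ∈ ({σ x, q} : Finset (Fin 24)) := h ▸ mem_insert_self _ _
    simp only [mem_insert, mem_singleton] at hm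
    rcases hm with hm | hm
    · exact absurd hm.symm hne
    · rw [e, hm]
  have hinj : Function.Injective σ := by
    intro x y he
    by_contra hxy
    obtain ⟨z, hzx, hzy⟩ := exists_third x y
    obtain ⟨a, ha, ea⟩ := hσ x z hzx
    obtain ⟨b, hb, eb⟩ := hσ y z hzy
    obtain ⟨c, hc, ec'⟩ := hσ x y (Ne.symm hxy)
    have h : g (f x + f y) = f a + f b := by
      have : f x + f y = f x + f z + (f y + f z) := by
        rw [add_add_add_comm, two_vec, add_zero]
      rw [this, map_add, ea, eb, he, add_add_add_comm, two_vec, zero_add]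
    have hab : a ≠ b := fun hab => by
      have h0 : g (f x + f z) = g (f y + f z) := by rw [ea, eb, he, hab]
      have hm : x ∈ ({y, z} : Finset (Fin 24)) :=
        pair_eq hr hzx.symm hzy.symm (hg.1 h0) ▸ mem_insert_self _ _
      simp [hxy, Ne.symm hzx] at hm
    have hm : σ x ∈ ({a, b} : Finset (Fin 24)) :=
      pair_eq hr hc.symm hab (ec'.symm.trans h) ▸ mem_insert_self _ _
    simp only [mem_insert, mem_singleton] at hm
    rcases hm with hm | hm
    · exact ha hm.symm
    · exact hb (hm.symm.trans he)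
  refine ⟨σ, hinj, fun x y => ?_⟩
  by_cases hxy : x = y
  · rw [hxy, two_vec, map_zero, two_vec]
  · exact hmeq x y hxy (hinj.ne hxy)

variable (f)

/-- The value of a word and its parity. -/
def wordVal : (Fin 24 → ZMod 2) →ₗ[ZMod 2] V × ZMod 2 :=
  ((Fintype.linearCombination (ZMod 2) f).prod
    (Fintype.linearCombination (ZMod 2) fun _ : Fin 24 => (1 : ZMod 2)))

/-- The even relations among the points. -/
def relCode : Submodule (ZMod 2) (Fin 24 → ZMod 2) := LinearMap.ker (wordVal f)

variable {f}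

theorem wordVal_apply (w : Fin 24 → ZMod 2) :
    wordVal f w = (∑ i, w i • f i, ∑ i, w i) := by
  simp [wordVal, Fintype.linearCombination_apply]

theorem mem_relCode {w : Fin 24 → ZMod 2} :
    w ∈ relCode f ↔ ∑ i, w i • f i = 0 ∧ ∑ i, w i = 0 := by
  rw [relCode, LinearMap.mem_ker, wordVal_apply, Prod.mk_eq_zero]

theorem word_mem_relCode {s : Finset (Fin 24)} :
    word s ∈ relCode f ↔ fsum f s = 0 ∧ Even s.card := by
  rw [mem_relCode]
  simp [word, fsum, ite_smul, sum_ite_mem, ZMod.natCast_eq_zero_iff_even]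

theorem minWeight_relCode (hr : NoShortRel f) : MinWeight (relCode f) := by
  intro w hw h0
  rw [← word_supp w, word_mem_relCode] at hw
  rw [hammingNorm_eq]
  have hne : (supp w).card ≠ 0 := fun h => h0 (by
    rw [← word_supp w, card_eq_zero.mp h]; funext i; simp [word])
  obtain ⟨k, hk⟩ := hw.2
  by_contra hlt
  exact hr _ (by omega) hw.1

variable [Finite V]

theorem finrank_relCode (hcard : Nat.card V = 2 ^ 11)
    (hgen : Submodule.span (ZMod 2) {v : V | ∃ x y, v = f x + f y} = ⊤) :
    Module.finrank (ZMod 2) (relCode f) = 12 := by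
  classical
  have hsurj : Function.Surjective (wordVal f) := by
    rw [← LinearMap.range_eq_top, eq_top_iff]
    rintro ⟨v, c⟩ -
    have hsingle : ∀ x, wordVal f (Pi.single x 1) = (f x, 1) := fun x => by
      rw [wordVal_apply]; simp [Pi.single_apply]
    have hv : (v, (0 : ZMod 2)) ∈ LinearMap.range (wordVal f) := by
      have : v ∈ Submodule.span (ZMod 2) {v : V | ∃ x y, v = f x + f y} := hgen ▸ trivial
      have hle : Submodule.span (ZMod 2) {v : V | ∃ x y, v = f x + f y} ≤
          (LinearMap.range (wordVal f)).comap (LinearMap.inl (ZMod 2) V (ZMod 2)) := by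
        rw [Submodule.span_le]
        rintro _ ⟨x, y, rfl⟩
        exact ⟨Pi.single x 1 + Pi.single y 1, by
          rw [map_add, hsingle, hsingle, LinearMap.inl_apply, Prod.mk_add_mk,
            CharTwo.add_self_eq_zero]⟩
      exact hle this
    have h1 : (0, c) ∈ LinearMap.range (wordVal f) := by
      have h0 : (f 0, (0 : ZMod 2)) ∈ LinearMap.range (wordVal f) := by
        have : f 0 ∈ Submodule.span (ZMod 2) {v : V | ∃ x y, v = f x + f y} := hgen ▸ trivial
        have hle : Submodule.span (ZMod 2) {v : V | ∃ x y, v = f x + f y} ≤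
            (LinearMap.range (wordVal f)).comap (LinearMap.inl (ZMod 2) V (ZMod 2)) := by
          rw [Submodule.span_le]
          rintro _ ⟨x, y, rfl⟩
          exact ⟨Pi.single x 1 + Pi.single y 1, by
            rw [map_add, hsingle, hsingle, LinearMap.inl_apply, Prod.mk_add_mk,
              CharTwo.add_self_eq_zero]⟩
        exact hle this
      have := Submodule.smul_mem _ c
        (add_mem h0 (⟨Pi.single 0 1, hsingle 0⟩ : (f 0, (1 : ZMod 2)) ∈ LinearMap.range (wordVal f)))
      simpa [two_vec] using this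
    simpa using add_mem hv h1
  have hrk := LinearMap.finrank_range_add_finrank_ker (wordVal f)
  rw [LinearMap.range_eq_top.2 hsurj, finrank_top, Module.finrank_fin_fun,
    Module.finrank_prod, Module.finrank_self] at hrk
  have hV : Module.finrank (ZMod 2) V = 11 := by
    have h := Module.natCard_eq_pow_finrank (K := ZMod 2) (V := V)
    rw [hcard, Nat.card_zmod] at h
    exact (Nat.pow_right_injective le_rfl h).symm
  rw [relCode]
  omega

omit [Finite V] in
/-- A map of the duads preserves the code. -/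
theorem relCode_comp {g : V →+ V} (hg : Function.Injective g) (σ : Equiv.Perm (Fin 24))
    (h : MovesAs f g σ) {w : Fin 24 → ZMod 2} (hw : w ∈ relCode f) :
    (fun i => w (σ.symm i)) ∈ relCode f := by
  rw [mem_relCode] at hw ⊢
  obtain ⟨h1, h2⟩ := hw
  have hc : ∀ i, g (f i) + f (σ i) = g (f 0) + f (σ 0) := fun i => by
    apply eq_of_add_zero
    rw [add_add_add_comm, ← map_add, h i 0, two_vec]
  have hsmul : ∀ (c : ZMod 2) (v : V), g (c • v) = c • g v := fun c v => by
    rcases (by decide : ∀ a : ZMod 2, a = 0 ∨ a = 1) c with rfl | rfl <;> simp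
  refine ⟨?_, by rw [← Equiv.sum_comp σ]; simpa using h2⟩
  rw [← Equiv.sum_comp σ]
  simp only [Equiv.symm_apply_apply]
  have e : ∑ i, w i • (g (f i) + f (σ i)) = 0 := by
    simp only [hc]
    rw [← sum_smul, h2, zero_smul]
  simp only [smul_add, sum_add_distrib] at e
  rw [← eq_of_add_zero e]
  simp only [← hsmul, ← map_sum, h1, map_zero]

/-- The blocks of weight 8 form a Steiner system. -/
theorem blocks_steiner (hcard : Nat.card V = 2 ^ 11)
    (hgen : Submodule.span (ZMod 2) {v : V | ∃ x y, v = f x + f y} = ⊤) (hr : NoShortRel f) :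
    Cfsg.IsSteinerSystem 5 8 {o : Finset (Fin 24) | o.card = 8 ∧ word o ∈ relCode f} := by
  refine ⟨fun b hb => hb.1, fun s hs => ?_⟩
  obtain ⟨o, ho, ho8, hso⟩ :=
    octad_cover (finrank_relCode hcard hgen) (minWeight_relCode hr) s hs
  exact ⟨o, ⟨⟨ho8, ho⟩, hso⟩, fun o' h =>
    octad_unique (minWeight_relCode hr) hs h.1.2 ho h.1.1 ho8 h.2 hso⟩

/-- A group permuting the duads maps onto a subgroup of M₂₄, with kernel the elements acting
trivially on the space. -/
theorem exists_hom_M24 {M : Type v} [Group M] (ρ : M →* AddMonoid.End V)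
    (hρ : ∀ m : M, ∀ x y, x ≠ y → ∃ p q, p ≠ q ∧ ρ m (f x + f y) = f p + f q)
    (hcard : Nat.card V = 2 ^ 11)
    (hgen : Submodule.span (ZMod 2) {v : V | ∃ x y, v = f x + f y} = ⊤) (hr : NoShortRel f) :
    ∃ (e : Fin 24 ≃ Cfsg.GolayPt) (π : M →* Cfsg.M24),
      (∀ m, π m = 1 ↔ ∀ v, ρ m v = v) ∧
      ∀ m x y, ρ m (f x + f y) =
        f (e.symm ((π m).1 (e x))) + f (e.symm ((π m).1 (e y))) := by
  classical
  have hinv : ∀ m v, ρ m⁻¹ (ρ m v) = v := fun m v => by
    have h := DFunLike.congr_fun (map_mul ρ m⁻¹ m) v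
    rw [inv_mul_cancel, map_one] at h
    exact h.symm
  have hp : ∀ m, PermutesDuads f (ρ m) := fun m =>
    ⟨Function.LeftInverse.injective (hinv m), hρ m⟩
  choose s hsi hsm using fun m => exists_movesAs hr (hp m)
  have hmul : ∀ m n, s (m * n) = s m ∘ s n := fun m n => by
    refine movesAs_unique hr (hsm (m * n)) (fun x y => ?_) (hsi _) ((hsi m).comp (hsi n))
    rw [map_mul]
    show ρ m (ρ n (f x + f y)) = _
    rw [show ρ n (f x + f y) = _ from hsm n x y]
    exact hsm m (s n x) (s n y)
  have hone : s 1 = id := movesAs_unique hr (hsm 1) (fun x y => by rw [map_one]; rfl) (hsi _)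
    Function.injective_id
  let σ : M →* Equiv.Perm (Fin 24) :=
    { toFun := fun m => Equiv.ofBijective (s m) (Finite.injective_iff_bijective.1 (hsi m))
      map_one' := Equiv.ext fun x => congrFun hone x
      map_mul' := fun m n => Equiv.ext fun x => congrFun (hmul m n) x }
  have hσm : ∀ m, MovesAs f (ρ m) (σ m) := fun m => hsm m
  set B : Set (Finset (Fin 24)) := {o | o.card = 8 ∧ word o ∈ relCode f}
  obtain ⟨e, -, heB⟩ := GolayUnique.exists_iso (Fintype.card_fin 24) GolayUnique.card_golayPt
    (blocks_steiner hcard hgen hr) Mathieu.octads_steiner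
  have hmem : ∀ m, σ m ∈ Cfsg.setSystemAut B := by
    have hfwd : ∀ m, ∀ b ∈ B, b.image (σ m) ∈ B := by
      intro m b hb
      refine ⟨by rw [card_image_of_injective _ (σ m).injective]; exact hb.1, ?_⟩
      convert relCode_comp (hp m).1 (σ m) (hσm m) hb.2 using 1
      funext i
      simp only [word, mem_image]
      exact if_congr ⟨fun ⟨a, ha, hai⟩ => by rw [← hai]; simpa using ha,
        fun h => ⟨_, h, by simp⟩⟩ rfl rfl
    intro m
    rw [GolayUnique.mem_setSystemAut_iff]
    refine fun b => ⟨fun hb => ?_, hfwd m b⟩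
    have h := hfwd m⁻¹ _ hb
    rwa [image_image, show (σ m⁻¹ ∘ σ m) = id from funext fun x => by simp [map_inv], image_id] at h
  let ε : Cfsg.setSystemAut Cfsg.octads ≃* Cfsg.M24 :=
    MulEquiv.subgroupCongr Mathieu.M24_eq_setSystemAut_octads.symm
  let π : M →* Cfsg.M24 :=
    (ε.toMonoidHom.comp (GolayUnique.autEquiv e heB).toMonoidHom).comp (σ.codRestrict _ hmem)
  have hπ : ∀ m x, e.symm ((π m).1 (e x)) = σ m x := fun m x => by
    show e.symm (e.permCongr (σ m) (e x)) = _
    simp [Equiv.permCongr_apply]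
  refine ⟨e, π, fun m => ⟨fun h v => ?_, fun h => ?_⟩, fun m x y => ?_⟩
  · have hσ1 : ∀ x, σ m x = x := fun x => by rw [← hπ, h]; simp
    have hv : v ∈ Submodule.span (ZMod 2) {v : V | ∃ x y, v = f x + f y} := hgen ▸ trivial
    induction hv using Submodule.span_induction with
    | mem v hv =>
      obtain ⟨x, y, rfl⟩ := hv
      exact (hσm m x y).trans (by rw [hσ1, hσ1])
    | zero => exact map_zero _
    | add a b _ _ ha hb => rw [map_add, ha, hb]
    | smul c a _ ha =>
      rcases (by decide : ∀ a : ZMod 2, a = 0 ∨ a = 1) c with rfl | rfl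
      · simp
      · simpa using ha
  · have hs : s m = id := movesAs_unique hr (hsm m) (fun x y => h _) (hsi m) Function.injective_id
    refine Subtype.ext (Equiv.ext fun x => ?_)
    have := hπ m (e.symm x)
    rw [Equiv.apply_symm_apply, show σ m (e.symm x) = e.symm x from congrFun hs _] at this
    exact e.symm.injective this
  · rw [hπ, hπ]; exact hσm m x y

/-- An image of the order of M₂₄ is M₂₄. -/
theorem surjective_of_card {M : Type v} [Group M] [Finite M] (π : M →* Cfsg.M24)
    (h : Nat.card M = Nat.card π.ker * 244823040) : Function.Surjective π := by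
  have h1 := Subgroup.card_eq_card_quotient_mul_card_subgroup π.ker
  rw [Nat.card_congr (QuotientGroup.quotientKerEquivRange π).toEquiv, h, mul_comm] at h1
  have h2 : Nat.card π.range = 244823040 :=
    (Nat.eq_of_mul_eq_mul_right Nat.card_pos h1).symm
  rw [← MonoidHom.range_eq_top]
  exact Subgroup.eq_top_of_card_eq _ (by rw [h2, Mathieu.card_M24])

end Cfsg.Agent.AbstractGolay
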